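/-
helper76, PROJECT GAG (S4561: every finite solvable group embeds in `H / Z(H)` for a group `H` of central type).
Shared vocabulary: definitions only (plus `rfl`-lemmas).

Construction (one step, prime `p`): `K` a group, `s : K →* C_p`, `c ∈ Z(K)` with `c ^ p = 1`, `s c = 1`.
`W := K ≀ᵣ C_p` (Mathlib regular wreath product).  On the central functions `A := C_p → Z(K)` (a commutative
group) the *twisted product*  `Φ f := (∏ k, f k) * c ^ (∑ k, k * s (f k))`  is a homomorphism `A →* Z(K)`,
equivariant for the translation action of `C_p` up to the twist `Φ (f ∘ (q⁻¹ * ·)) = Φ f * c ^ (q * S f)`,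
`S f := ∑ k, s (f k)`.  `R := j (ker Φ)` (`j : A →* W` the base embedding) is a normal subgroup of `W`,
`H₁ := W ⧸ R`, and `Z₁ := image of j (Φ⁻¹ (ker s))` is the centre of `H₁`.
For `K = H × C_p`, `s = snd`, `c = (c₀, 1)`: `H₁` is the group `((H^p / Z₀) × ⟨b⟩) ⋊ ⟨a⟩` of the paper proof.
-/
import Mathlib
import Cfsg.Agent.Lib.Helper3.WreathEmb

set_option autoImplicit false

namespace Cfsg.Agent.Lib.Helper76.Gag

open scoped commutatorElement IsMulCommutative
open Cfsg.Agent.Lib.Helper3.Wreath

universe u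

/-- `(*)` relative to the centre: every non-central `h` has a non-trivial central commutator `⁅h, g⁆`. -/
def StarC (H : Type*) [Group H] : Prop :=
  ∀ h : H, h ∉ Subgroup.center H → ∃ g : H, ⁅h, g⁆ ∈ Subgroup.center H ∧ ⁅h, g⁆ ≠ 1

/-- the cyclic group of order `p`, written multiplicatively -/
abbrev Cp (p : ℕ) : Type := Multiplicative (ZMod p)

section construction

variable (p : ℕ) [Fact p.Prime] {K : Type u} [Group K] (s : K →* Cp p) (c : Subgroup.center K)

/-- `c ^ n` for `n : ZMod p` (meaningful when `c ^ p = 1`) -/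
def cpow (n : ZMod p) : Subgroup.center K := c ^ n.val

/-- `S f = ∑ k, s (f k)` in `ZMod p` -/
def Ssum (f : Cp p → Subgroup.center K) : ZMod p :=
  ∑ k : Cp p, Multiplicative.toAdd (s (f k : K))

/-- the twist exponent `∑ k, k * s (f k)` in `ZMod p` -/
def Tsum (f : Cp p → Subgroup.center K) : ZMod p :=
  ∑ k : Cp p, Multiplicative.toAdd k * Multiplicative.toAdd (s (f k : K))

/-- the twisted product `Φ f = (∏ k, f k) * c ^ (∑ k, k * s (f k))` -/
def PhiFun (f : Cp p → Subgroup.center K) : Subgroup.center K :=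
  (∏ k : Cp p, f k) * cpow p c (Tsum p s f)

/-- the base embedding of the central functions into the wreath product -/
def jHom : (Cp p → Subgroup.center K) →* K ≀ᵣ Cp p :=
  (base : (Cp p → K) →* K ≀ᵣ Cp p).comp (MonoidHom.compLeft (Subgroup.center K).subtype (Cp p))

/-- `R = j (ker Φ)` as a set-defined subgroup of `W` (subgroup axioms need `c ^ p = 1`, see `Rsub`) -/
def Rset : Set (K ≀ᵣ Cp p) := {w | ∃ f : Cp p → Subgroup.center K, PhiFun p s c f = 1 ∧ jHom p f = w}

/-- preimage of `Z₁`: `j (Φ⁻¹ (ker s))` -/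
def Z1set : Set (K ≀ᵣ Cp p) :=
  {w | ∃ f : Cp p → Subgroup.center K, s (PhiFun p s c f : K) = 1 ∧ jHom p f = w}

/-- standing hypotheses of one step of the construction -/
structure StepHyp : Prop where
  c_pow : c ^ p = 1
  c_ne : c ≠ 1
  s_c : s (c : K) = 1
  star : ∀ x : K, x ∉ Subgroup.center K → ∃ g : K, ⁅x, g⁆ ∈ Subgroup.center K ∧ ⁅x, g⁆ ≠ 1
  surj : ∃ b : Subgroup.center K, s (b : K) = Multiplicative.ofAdd 1

@[simp] theorem jHom_left (f : Cp p → Subgroup.center K) (k : Cp p) :
    (jHom p f).left k = (f k : K) := rfl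

@[simp] theorem jHom_right (f : Cp p → Subgroup.center K) : (jHom p f).right = 1 := rfl

end construction

end Cfsg.Agent.Lib.Helper76.Gag
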