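/-
helper76, PROJECT GAG (S4561), module [PHI]: the twisted product `Φ` and the base embedding `jHom`.
-/
import Mathlib
import Cfsg.Agent.Lib.Helper3.WreathEmb
import Cfsg.Agent.Lib.Helper76.Gag.Defs

set_option autoImplicit false

namespace Cfsg.Agent.Lib.Helper76.Gag

open scoped commutatorElement IsMulCommutative
open Cfsg.Agent.Lib.Helper3.Wreath

universe u

variable (p : ℕ) [Fact p.Prime] {K : Type u} [Group K] (s : K →* Cp p) (c : Subgroup.center K)

theorem cpow_zero : cpow p c 0 = 1 := by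
  simp [cpow]

theorem cpow_add (hc : c ^ p = 1) (a b : ZMod p) : cpow p c (a + b) = cpow p c a * cpow p c b := by
  unfold cpow
  rw [ZMod.val_add, ← pow_eq_pow_mod _ hc, pow_add]

theorem cpow_neg (hc : c ^ p = 1) (a : ZMod p) : cpow p c (-a) = (cpow p c a)⁻¹ := by
  apply eq_inv_of_mul_eq_one_left
  rw [← cpow_add p c hc, neg_add_cancel, cpow_zero]

theorem cpow_eq_one_iff (hc : c ^ p = 1) (hne : c ≠ 1) (a : ZMod p) : cpow p c a = 1 ↔ a = 0 := by
  constructor
  · intro h
    have ho : orderOf c = p := orderOf_eq_prime hc hne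
    have h' : c ^ a.val = 1 := h
    have hd : p ∣ a.val := by
      have := orderOf_dvd_of_pow_eq_one h'
      rwa [ho] at this
    have hlt : a.val < p := ZMod.val_lt a
    have h0 : a.val = 0 := Nat.eq_zero_of_dvd_of_lt hd hlt
    exact (ZMod.val_eq_zero a).1 h0
  · rintro rfl
    exact cpow_zero p c

theorem s_cpow (hs : s (c : K) = 1) (a : ZMod p) : s (cpow p c a : K) = 1 := by
  unfold cpow
  rw [Subgroup.coe_pow, map_pow, hs, one_pow]

/-- `s` restricted to the centre -/
def sC : Subgroup.center K →* Cp p := s.comp (Subgroup.center K).subtype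

theorem sC_apply (t : Subgroup.center K) : sC p s t = s (t : K) := rfl

theorem Ssum_eq (f : Cp p → Subgroup.center K) :
    Ssum p s f = ∑ k : Cp p, Multiplicative.toAdd (sC p s (f k)) := rfl

theorem Tsum_eq (f : Cp p → Subgroup.center K) :
    Tsum p s f = ∑ k : Cp p, Multiplicative.toAdd k * Multiplicative.toAdd (sC p s (f k)) := rfl

theorem Tsum_one : Tsum p s (1 : Cp p → Subgroup.center K) = 0 := by
  rw [Tsum_eq]
  simp

theorem Tsum_mul (f g : Cp p → Subgroup.center K) : Tsum p s (f * g) = Tsum p s f + Tsum p s g := by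
  rw [Tsum_eq, Tsum_eq, Tsum_eq, ← Finset.sum_add_distrib]
  refine Finset.sum_congr rfl fun k _ => ?_
  rw [Pi.mul_apply, map_mul, toAdd_mul, mul_add]

theorem Ssum_mul (f g : Cp p → Subgroup.center K) : Ssum p s (f * g) = Ssum p s f + Ssum p s g := by
  rw [Ssum_eq, Ssum_eq, Ssum_eq, ← Finset.sum_add_distrib]
  refine Finset.sum_congr rfl fun k _ => ?_
  rw [Pi.mul_apply, map_mul, toAdd_mul]

theorem PhiFun_one : PhiFun p s c 1 = 1 := by
  unfold PhiFun
  rw [Tsum_one, cpow_zero]
  simp

theorem PhiFun_mul (hc : c ^ p = 1) (f g : Cp p → Subgroup.center K) :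
    PhiFun p s c (f * g) = PhiFun p s c f * PhiFun p s c g := by
  unfold PhiFun
  rw [Tsum_mul, cpow_add p c hc]
  simp only [Pi.mul_apply, Finset.prod_mul_distrib]
  exact mul_mul_mul_comm _ _ _ _

theorem PhiFun_inv (hc : c ^ p = 1) (f : Cp p → Subgroup.center K) :
    PhiFun p s c f⁻¹ = (PhiFun p s c f)⁻¹ := by
  apply eq_inv_of_mul_eq_one_left
  rw [← PhiFun_mul p s c hc, inv_mul_cancel, PhiFun_one]

theorem s_PhiFun (hs : s (c : K) = 1) (f : Cp p → Subgroup.center K) :
    s (PhiFun p s c f : K) = Multiplicative.ofAdd (Ssum p s f) := by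
  unfold PhiFun
  rw [Subgroup.coe_mul, map_mul, s_cpow p s c hs, mul_one, ← sC_apply, map_prod, Ssum_eq, ofAdd_sum]
  simp

theorem PhiFun_shift (hc : c ^ p = 1) (q : Cp p) (f : Cp p → Subgroup.center K) :
    PhiFun p s c (fun k => f (q⁻¹ * k)) =
      PhiFun p s c f * cpow p c (Multiplicative.toAdd q * Ssum p s f) := by
  unfold PhiFun
  have h1 : ∏ k : Cp p, f (q⁻¹ * k) = ∏ k : Cp p, f k :=
    Fintype.prod_equiv (Equiv.mulLeft q⁻¹) _ _ fun k => rfl
  have h2 : Tsum p s (fun k => f (q⁻¹ * k)) = Tsum p s f + Multiplicative.toAdd q * Ssum p s f := by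
    rw [Tsum_eq, Tsum_eq, Ssum_eq, Finset.mul_sum, ← Finset.sum_add_distrib]
    refine Fintype.sum_equiv (Equiv.mulLeft q⁻¹) _ _ fun k => ?_
    simp only [Equiv.coe_mulLeft]
    have : Multiplicative.toAdd k = Multiplicative.toAdd q + Multiplicative.toAdd (q⁻¹ * k) := by
      rw [← toAdd_mul, mul_inv_cancel_left]
    rw [this]
    ring
  rw [h1, h2, cpow_add p c hc, mul_assoc]

theorem PhiFun_mulSingle (k : Cp p) (t : Subgroup.center K) :
    PhiFun p s c (Pi.mulSingle k t) =
      t * cpow p c (Multiplicative.toAdd k * Multiplicative.toAdd (s (t : K))) := by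
  unfold PhiFun
  have h1 : ∏ j : Cp p, (Pi.mulSingle k t : Cp p → Subgroup.center K) j = t :=
    Fintype.prod_pi_mulSingle' k t
  have h2 : Tsum p s (Pi.mulSingle k t) = Multiplicative.toAdd k * Multiplicative.toAdd (s (t : K)) := by
    rw [Tsum_eq, Finset.sum_eq_single k]
    · rw [Pi.mulSingle_eq_same, sC_apply]
    · intro j _ hj
      rw [Pi.mulSingle_eq_of_ne hj, map_one, toAdd_one, mul_zero]
    · intro hk; exact absurd (Finset.mem_univ k) hk
  rw [h1, h2]

theorem Ssum_mulSingle (k : Cp p) (t : Subgroup.center K) :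
    Ssum p s (Pi.mulSingle k t) = Multiplicative.toAdd (s (t : K)) := by
  rw [Ssum_eq, Finset.sum_eq_single k]
  · rw [Pi.mulSingle_eq_same, sC_apply]
  · intro j _ hj
    rw [Pi.mulSingle_eq_of_ne hj, map_one, toAdd_one]
  · intro hk; exact absurd (Finset.mem_univ k) hk

/-- `Φ` as a homomorphism -/
def PhiHom (hc : c ^ p = 1) : (Cp p → Subgroup.center K) →* Subgroup.center K where
  toFun := PhiFun p s c
  map_one' := PhiFun_one p s c
  map_mul' := PhiFun_mul p s c hc

theorem jHom_injective : Function.Injective (jHom p : (Cp p → Subgroup.center K) →* K ≀ᵣ Cp p) := by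
  intro f g h
  have h1 := base_injective h
  funext k
  exact Subtype.ext (congrFun h1 k)

/-- conjugation of a central base element by any element of the wreath product is a translation -/
theorem conj_jHom (w : K ≀ᵣ Cp p) (f : Cp p → Subgroup.center K) :
    w * jHom p f * w⁻¹ = jHom p (fun k => f (w.right⁻¹ * k)) := by
  have h := conj_base' w (fun k => (f k : K))
  have e1 : jHom p f = base (fun k => (f k : K)) := rfl
  have e2 : jHom p (fun k => f (w.right⁻¹ * k)) = base (fun k => (f (w.right⁻¹ * k) : K)) := rfl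
  rw [e1, e2, h]
  congr 1
  funext y
  have hc := (f (w.right⁻¹ * y)).2
  rw [Subgroup.mem_center_iff] at hc
  rw [hc (w.left y), mul_assoc, mul_inv_cancel, mul_one]

/-- an element of the base group with central coordinates is in the image of `jHom` -/
theorem exists_jHom_eq (w : K ≀ᵣ Cp p) (h1 : w.right = 1) (h2 : ∀ k, w.left k ∈ Subgroup.center K) :
    ∃ f : Cp p → Subgroup.center K, jHom p f = w := by
  refine ⟨fun k => ⟨w.left k, h2 k⟩, ?_⟩
  ext k
  · rfl
  · exact h1.symm

end Cfsg.Agent.Lib.Helper76.Gag
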