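/-
helper76, PROJECT GAG (S4561): level-2 definitions (the quotient group `H₁ = W ⧸ R`).
-/
import Mathlib
import Cfsg.Agent.Lib.Helper3.WreathEmb
import Cfsg.Agent.Lib.Helper76.Gag.Defs
import Cfsg.Agent.Lib.Helper76.Gag.Phi
import Cfsg.Agent.Lib.Helper95.GagNormal

set_option autoImplicit false

namespace Cfsg.Agent.Lib.Helper76.Gag

open scoped commutatorElement IsMulCommutative
open Cfsg.Agent.Lib.Helper3.Wreath

universe u

section level2

variable (p : ℕ) [Fact p.Prime] {K : Type u} [Group K] (s : K →* Cp p) (c : Subgroup.center K)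

/-- `R = j (ker Φ)` as a subgroup of `W` -/
def Rsub (h : StepHyp p s c) : Subgroup (K ≀ᵣ Cp p) where
  carrier := Rset p s c
  mul_mem' := mul_mem_Rset p s c h
  one_mem' := one_mem_Rset p s c
  inv_mem' := inv_mem_Rset p s c h

instance Rsub_normal (h : StepHyp p s c) : (Rsub p s c h).Normal :=
  ⟨fun _ hr w => conj_mem_Rset p s c h w hr⟩

/-- `j (Φ⁻¹ (ker s))` as a subgroup of `W` -/
def Z1sub (h : StepHyp p s c) : Subgroup (K ≀ᵣ Cp p) where
  carrier := Z1set p s c
  mul_mem' := mul_mem_Z1set p s c h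
  one_mem' := one_mem_Z1set p s c
  inv_mem' := inv_mem_Z1set p s c h

/-- the group `H₁ = W / R` -/
abbrev H1 (h : StepHyp p s c) : Type u := (K ≀ᵣ Cp p) ⧸ Rsub p s c h

theorem mem_Rsub (h : StepHyp p s c) (w : K ≀ᵣ Cp p) : w ∈ Rsub p s c h ↔ w ∈ Rset p s c := Iff.rfl

theorem mem_Z1sub (h : StepHyp p s c) (w : K ≀ᵣ Cp p) : w ∈ Z1sub p s c h ↔ w ∈ Z1set p s c := Iff.rfl

/-- hypotheses on an embedding `ι : H → K` (in the application `K = H × C_p`, `ι = inl`) -/
structure EmbHyp {H : Type u} [Group H] (ι : H →* K) : Prop where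
  inj : Function.Injective ι
  s_ι : ∀ x : H, s (ι x) = 1
  center_iff : ∀ x : H, ι x ∈ Subgroup.center K ↔ x ∈ Subgroup.center H
  surj : ∀ t : K, t ∈ Subgroup.center K → s t = 1 → ∃ z : H, ι z = t

end level2

end Cfsg.Agent.Lib.Helper76.Gag
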