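/-
helper76, PROJECT GAG (S4561): hedge of module [QUOT] (own names, suffix `_h76`).
-/
import Mathlib
import Cfsg.Agent.Lib.Helper3.WreathEmb
import Cfsg.Agent.Lib.Helper76.Gag.Defs
import Cfsg.Agent.Lib.Helper76.Gag.Phi
import Cfsg.Agent.Lib.Helper76.Gag.Defs2
import Cfsg.Agent.Lib.Helper95.GagNormal
import Cfsg.Agent.Lib.Helper95.GagStar
import Cfsg.Agent.Lib.Helper93.GagZeq

set_option autoImplicit false

namespace Cfsg.Agent.Lib.Helper76.Gag

open scoped commutatorElement IsMulCommutative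
open Cfsg.Agent.Lib.Helper3.Wreath

universe u

variable (p : ℕ) [Fact p.Prime] {K : Type u} [Group K] (s : K →* Cp p) (c : Subgroup.center K)

theorem quot_aux_h76 (h : StepHyp p s c) :
    (Z1sub p s c h).map (QuotientGroup.mk' (Rsub p s c h)) = Subgroup.center (H1 p s c h) ∧
      StarC (H1 p s c h) := by
  apply center_eq_of_star
  · rintro x ⟨z, hz, rfl⟩
    rw [Subgroup.mem_center_iff]
    intro g
    obtain ⟨w, rfl⟩ := QuotientGroup.mk_surjective g
    have h1 : ⁅w, z⁆ ∈ Rsub p s c h := comm_mem_Rset p s c h w hz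
    have h2 : (QuotientGroup.mk ⁅w, z⁆ : H1 p s c h) = 1 := (QuotientGroup.eq_one_iff _).2 h1
    rw [commutatorElement_def] at h2
    simp only [QuotientGroup.mk_mul, QuotientGroup.mk_inv] at h2
    show (QuotientGroup.mk w : H1 p s c h) * QuotientGroup.mk z = QuotientGroup.mk z * QuotientGroup.mk w
    have h3 := mul_inv_eq_one.1 h2
    exact mul_inv_eq_iff_eq_mul.1 h3
  · intro x hx
    obtain ⟨w, rfl⟩ := QuotientGroup.mk_surjective x
    have hw : w ∉ Z1set p s c := fun hw => hx ⟨w, hw, rfl⟩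
    obtain ⟨y, hy1, hy2⟩ := star_W p s c h w hw
    refine ⟨QuotientGroup.mk y, ⟨⁅w, y⁆, hy1, ?_⟩, ?_⟩
    · simp [commutatorElement_def]
    · intro h1
      apply hy2
      have : (QuotientGroup.mk ⁅w, y⁆ : H1 p s c h) = 1 := by
        rw [← h1]; simp [commutatorElement_def]
      exact (QuotientGroup.eq_one_iff _).1 this

theorem mk_mem_center_iff_h76 (h : StepHyp p s c) (w : K ≀ᵣ Cp p) :
    (QuotientGroup.mk w : H1 p s c h) ∈ Subgroup.center (H1 p s c h) ↔ w ∈ Z1set p s c := by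
  rw [← (quot_aux_h76 p s c h).1]
  constructor
  · rintro ⟨z, hz, hzw⟩
    have h1 : z⁻¹ * w ∈ Rsub p s c h := QuotientGroup.eq.1 hzw
    have h2 : z⁻¹ * w ∈ Z1set p s c := Rset_subset_Z1set p s c h h1
    have h3 := mul_mem_Z1set p s c h hz h2
    rwa [mul_inv_cancel_left] at h3
  · intro hw
    exact ⟨w, hw, rfl⟩

theorem starC_H1_h76 (h : StepHyp p s c) : StarC (H1 p s c h) := (quot_aux_h76 p s c h).2

end Cfsg.Agent.Lib.Helper76.Gag
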