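/-
helper76, PROJECT GAG (S4561): hedges of modules [EMB], [PRIMES], [SPEC] (own names, suffix `_h76`).
-/
import Mathlib
import Cfsg.Agent.Lib.Helper3.WreathEmb
import Cfsg.Agent.Lib.Helper76.Gag.Defs
import Cfsg.Agent.Lib.Helper76.Gag.Phi
import Cfsg.Agent.Lib.Helper76.Gag.Defs2
import Cfsg.Agent.Lib.Helper76.Gag.QuotH76
import Cfsg.Agent.Lib.Helper95.GagNormal

set_option autoImplicit false

namespace Cfsg.Agent.Lib.Helper76.Gag

open scoped commutatorElement IsMulCommutative
open Cfsg.Agent.Lib.Helper3.Wreath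

universe u

section emb

variable (p : ℕ) [Fact p.Prime] {K : Type u} [Group K] (s : K →* Cp p) (c : Subgroup.center K)

theorem mapLeft_mk_surjective_h76 {H : Type u} [Group H] (N : Subgroup H) [N.Normal] :
    Function.Surjective (mapLeft (QuotientGroup.mk' N) : H ≀ᵣ Cp p →* (H ⧸ N) ≀ᵣ Cp p) := by
  intro v
  refine ⟨⟨fun k => Quotient.out (v.left k), v.right⟩, ?_⟩
  ext k
  · show QuotientGroup.mk' N (Quotient.out (v.left k)) = v.left k
    exact QuotientGroup.out_eq' _
  · rfl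

theorem mapLeft_mk_eq_one_iff_h76 {H : Type u} [Group H] (N : Subgroup H) [N.Normal] (w : H ≀ᵣ Cp p) :
    mapLeft (QuotientGroup.mk' N) w = 1 ↔ w.right = 1 ∧ ∀ k, w.left k ∈ N := by
  constructor
  · intro h
    refine ⟨congrArg RegularWreathProduct.right h, fun k => ?_⟩
    have := congrFun (congrArg RegularWreathProduct.left h) k
    exact (QuotientGroup.eq_one_iff _).1 this
  · rintro ⟨h1, h2⟩
    ext k
    · exact (QuotientGroup.eq_one_iff _).2 (h2 k)
    · exact h1

/-- `(H / Z(H)) ≀ᵣ C_p ↪ H₁ / Z(H₁)` -/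
theorem exists_embed_wreath_h76 (h : StepHyp p s c) {H : Type u} [Group H] (ι : H →* K)
    (hι : EmbHyp p s ι) :
    ∃ f : (H ⧸ Subgroup.center H) ≀ᵣ Cp p →* H1 p s c h ⧸ Subgroup.center (H1 p s c h),
      Function.Injective f := by
  classical
  let θ : H ≀ᵣ Cp p →* H1 p s c h ⧸ Subgroup.center (H1 p s c h) :=
    (QuotientGroup.mk' (Subgroup.center (H1 p s c h))).comp
      ((QuotientGroup.mk' (Rsub p s c h)).comp (mapLeft ι))
  let π : H ≀ᵣ Cp p →* (H ⧸ Subgroup.center H) ≀ᵣ Cp p := mapLeft (QuotientGroup.mk' (Subgroup.center H))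
  have hπ : Function.Surjective π := mapLeft_mk_surjective_h76 p (Subgroup.center H)
  have key : ∀ w : H ≀ᵣ Cp p, θ w = 1 ↔ π w = 1 := by
    intro w
    have h1 : θ w = 1 ↔ mapLeft ι w ∈ Z1set p s c := by
      show (QuotientGroup.mk (QuotientGroup.mk (mapLeft ι w) : H1 p s c h) :
        H1 p s c h ⧸ Subgroup.center (H1 p s c h)) = 1 ↔ _
      rw [QuotientGroup.eq_one_iff, mk_mem_center_iff_h76]
    rw [h1, mapLeft_mk_eq_one_iff_h76]
    constructor
    · rintro ⟨f, hf1, hf2⟩
      refine ⟨(congrArg RegularWreathProduct.right hf2).symm, fun k => ?_⟩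
      have h2 : (f k : K) = ι (w.left k) := congrFun (congrArg RegularWreathProduct.left hf2) k
      exact (hι.center_iff _).1 (h2 ▸ (f k).2)
    · rintro ⟨h2, h3⟩
      refine ⟨fun k => ⟨ι (w.left k), (hι.center_iff _).2 (h3 k)⟩, ?_, ?_⟩
      · rw [s_PhiFun p s c h.s_c]
        have : Ssum p s (fun k => (⟨ι (w.left k), (hι.center_iff _).2 (h3 k)⟩ : Subgroup.center K)) = 0 := by
          unfold Ssum
          apply Finset.sum_eq_zero
          intro k _
          show Multiplicative.toAdd (s (ι (w.left k))) = 0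
          rw [hι.s_ι, toAdd_one]
        rw [this]
        rfl
      · ext k
        · rfl
        · exact h2.symm
  have hker : π.ker ≤ θ.ker := fun w hw => (key w).2 hw
  refine ⟨π.liftOfRightInverse (Function.surjInv hπ) (Function.rightInverse_surjInv hπ) ⟨θ, hker⟩, ?_⟩
  rw [injective_iff_map_eq_one]
  intro v hv
  obtain ⟨w, rfl⟩ := hπ v
  rw [MonoidHom.liftOfRightInverse_comp_apply] at hv
  exact (key w).1 hv

theorem dvd_card_H1_h76 (h : StepHyp p s c) [Finite K] {q : ℕ} (hq : q.Prime)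
    (hd : q ∣ Nat.card (H1 p s c h)) : q ∣ Nat.card K ∨ q = p := by
  have hpp : p.Prime := Fact.out
  have h1 : Nat.card (H1 p s c h) ∣ Nat.card (K ≀ᵣ Cp p) := Subgroup.card_quotient_dvd_card _
  have h2 : Nat.card (K ≀ᵣ Cp p) = Nat.card K ^ Nat.card (Cp p) * Nat.card (Cp p) :=
    RegularWreathProduct.card
  have h3 : Nat.card (Cp p) = p := by
    rw [Nat.card_eq_fintype_card, Fintype.card_multiplicative, ZMod.card]
  rw [h2, h3] at h1
  rcases (Nat.Prime.dvd_mul hq).1 (hd.trans h1) with h4 | h4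
  · exact Or.inl (hq.dvd_of_dvd_pow h4)
  · exact Or.inr ((Nat.prime_dvd_prime_iff_eq hq hpp).1 h4)

end emb

section spec

variable (p : ℕ) [Fact p.Prime] {H : Type u} [Group H]

theorem mem_center_prod_iff_h76 (x : H × Cp p) :
    x ∈ Subgroup.center (H × Cp p) ↔ x.1 ∈ Subgroup.center H := by
  rw [Subgroup.mem_center_iff, Subgroup.mem_center_iff]
  constructor
  · intro h g
    have := congrArg Prod.fst (h (g, 1))
    simpa using this
  · intro h g
    exact Prod.ext (h g.1) (mul_comm _ _)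

/-- `(c₀, 1)` as an element of the centre of `H × C_p` -/
def cK_h76 (c₀ : Subgroup.center H) : Subgroup.center (H × Cp p) :=
  ⟨((c₀ : H), 1), (mem_center_prod_iff_h76 p _).2 c₀.2⟩

theorem stepHyp_prod_h76 (hstar : StarC H) (c₀ : Subgroup.center H) (hc : c₀ ^ p = 1) (hne : c₀ ≠ 1) :
    StepHyp p (MonoidHom.snd H (Cp p)) (cK_h76 p c₀) := by
  refine ⟨?_, ?_, rfl, ?_, ?_⟩
  · apply Subtype.ext
    have h1 : ((c₀ : H)) ^ p = 1 := by
      have := congrArg Subtype.val hc
      simpa using this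
    show (((c₀ : H), (1 : Cp p)) : H × Cp p) ^ p = 1
    rw [Prod.pow_mk, h1, one_pow]
    rfl
  · intro h
    apply hne
    have := congrArg (fun t : Subgroup.center (H × Cp p) => (t : H × Cp p).1) h
    exact Subtype.ext this
  · intro x hx
    have hx1 : x.1 ∉ Subgroup.center H := fun h => hx ((mem_center_prod_iff_h76 p x).2 h)
    obtain ⟨g, hg1, hg2⟩ := hstar x.1 hx1
    refine ⟨(g, 1), ?_, ?_⟩
    · rw [mem_center_prod_iff_h76]
      exact hg1
    · intro h
      apply hg2
      exact congrArg Prod.fst h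
  · exact ⟨⟨(1, Multiplicative.ofAdd 1), (mem_center_prod_iff_h76 p _).2 (one_mem _)⟩, rfl⟩

theorem embHyp_prod_h76 : EmbHyp p (MonoidHom.snd H (Cp p)) (MonoidHom.inl H (Cp p)) := by
  refine ⟨?_, fun _ => rfl, ?_, ?_⟩
  · intro a b h
    exact congrArg Prod.fst h
  · intro x
    exact mem_center_prod_iff_h76 p _
  · intro t _ ht
    refine ⟨t.1, ?_⟩
    exact Prod.ext rfl ht.symm

end spec

end Cfsg.Agent.Lib.Helper76.Gag
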