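/-
helper76, PROJECT GAG (S4561): hedge of module [ISO] (own names, suffix `_h76`).
-/
import Mathlib
import Cfsg.Agent.Lib.Helper3.WreathEmb
import Cfsg.Agent.Lib.Helper76.Gag.Defs
import Cfsg.Agent.Lib.Helper76.Gag.Phi
import Cfsg.Agent.Lib.Helper76.Gag.Defs2
import Cfsg.Agent.Lib.Helper76.Gag.QuotH76
import Cfsg.Agent.Lib.Helper95.GagNormal

set_option autoImplicit false

namespace Cfsg.Agent.Lib.Helper76.Gag

open scoped commutatorElement IsMulCommutative
open Cfsg.Agent.Lib.Helper3.Wreath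

universe u

variable (p : ℕ) [Fact p.Prime] {K : Type u} [Group K] (s : K →* Cp p) (c : Subgroup.center K)

theorem PhiFun_mulSingle_one_h76 (t : Subgroup.center K) :
    PhiFun p s c (Pi.mulSingle (1 : Cp p) t) = t := by
  rw [PhiFun_mulSingle, toAdd_one, zero_mul, cpow_zero, mul_one]

/-- `Z(H) ≅ Z(H₁)` -/
theorem exists_center_equiv_h76 (h : StepHyp p s c) {H : Type u} [Group H] (ι : H →* K)
    (hι : EmbHyp p s ι) : Nonempty (Subgroup.center H ≃* Subgroup.center (H1 p s c h)) := by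
  classical
  let ι' : Subgroup.center H →* Subgroup.center K :=
    (ι.comp (Subgroup.center H).subtype).codRestrict (Subgroup.center K)
      (fun z => (hι.center_iff z).2 z.2)
  let ψ : Subgroup.center H →* H1 p s c h :=
    (QuotientGroup.mk' (Rsub p s c h)).comp
      ((jHom p).comp ((MonoidHom.mulSingle (fun _ : Cp p => Subgroup.center K) 1).comp ι'))
  have hψ_apply : ∀ z, ψ z = QuotientGroup.mk (jHom p (Pi.mulSingle (1 : Cp p) (ι' z))) := fun z => rfl
  have hι'_coe : ∀ z, ((ι' z : Subgroup.center K) : K) = ι z := fun z => rfl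
  have hinj : Function.Injective ψ := by
    rw [injective_iff_map_eq_one]
    intro z hz
    rw [hψ_apply] at hz
    have h1 : jHom p (Pi.mulSingle (1 : Cp p) (ι' z)) ∈ Rsub p s c h := (QuotientGroup.eq_one_iff _).1 hz
    rw [mem_Rsub, jHom_mem_Rset_iff, PhiFun_mulSingle_one_h76] at h1
    have h2 : ι (z : H) = 1 := by
      rw [← hι'_coe, h1]; rfl
    have h3 : (z : H) = 1 := hι.inj (h2.trans (map_one ι).symm)
    exact Subtype.ext h3
  have hrange : ψ.range = Subgroup.center (H1 p s c h) := by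
    ext x
    constructor
    · rintro ⟨z, rfl⟩
      rw [hψ_apply, mk_mem_center_iff_h76, jHom_mem_Z1set_iff, PhiFun_mulSingle_one_h76, hι'_coe]
      exact hι.s_ι _
    · intro hx
      obtain ⟨w, rfl⟩ := QuotientGroup.mk_surjective x
      rw [mk_mem_center_iff_h76] at hx
      obtain ⟨f, hf, rfl⟩ := hx
      obtain ⟨z, hz⟩ := hι.surj (PhiFun p s c f : K) (PhiFun p s c f).2 hf
      have hzc : z ∈ Subgroup.center H := (hι.center_iff z).1 (hz ▸ (PhiFun p s c f).2)
      refine ⟨⟨z, hzc⟩, ?_⟩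
      rw [hψ_apply]
      have hι'z : ι' ⟨z, hzc⟩ = PhiFun p s c f := Subtype.ext hz
      rw [hι'z]
      apply QuotientGroup.eq.2
      rw [mem_Rsub, ← map_inv, ← map_mul, jHom_mem_Rset_iff, PhiFun_mul p s c h.c_pow,
        PhiFun_inv p s c h.c_pow, PhiFun_mulSingle_one_h76, inv_mul_cancel]
  exact ⟨(MonoidHom.ofInjective hinj).trans (MulEquiv.subgroupCongr hrange)⟩

/-- `H ↪ H₁` -/
theorem exists_embed_H_h76 (h : StepHyp p s c) {H : Type u} [Group H] (ι : H →* K)
    (hι : EmbHyp p s ι) : ∃ f : H →* H1 p s c h, Function.Injective f := by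
  classical
  let φ : H →* H1 p s c h :=
    (QuotientGroup.mk' (Rsub p s c h)).comp
      ((base : (Cp p → K) →* K ≀ᵣ Cp p).comp ((MonoidHom.mulSingle (fun _ : Cp p => K) 1).comp ι))
  refine ⟨φ, ?_⟩
  rw [injective_iff_map_eq_one]
  intro x hx
  have h1 : base (Pi.mulSingle (1 : Cp p) (ι x)) ∈ Rsub p s c h := (QuotientGroup.eq_one_iff _).1 hx
  obtain ⟨g, hg1, hg2⟩ := h1
  have hg3 : ∀ k, (g k : K) = (Pi.mulSingle (1 : Cp p) (ι x) : Cp p → K) k := by
    intro k
    have := congrArg (fun w : K ≀ᵣ Cp p => w.left k) hg2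
    simpa using this
  have hg4 : g = Pi.mulSingle (1 : Cp p) (g 1) := by
    funext k
    by_cases hk : k = 1
    · subst hk; rw [Pi.mulSingle_eq_same]
    · rw [Pi.mulSingle_eq_of_ne hk]
      apply Subtype.ext
      rw [hg3 k, Pi.mulSingle_eq_of_ne hk]
      rfl
  rw [hg4, PhiFun_mulSingle_one_h76] at hg1
  have h2 : ι x = 1 := by
    have := hg3 1
    rw [Pi.mulSingle_eq_same, hg1] at this
    exact this.symm
  exact hι.inj (h2.trans (map_one ι).symm)

end Cfsg.Agent.Lib.Helper76.Gag
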