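/-
helper76, PROJECT GAG (S4561): assembly ([STEP], [MAIN]) from the landed modules and my level-2 hedges.
-/
import Mathlib
import Cfsg.Agent.Lib.Helper3.WreathEmb
import Cfsg.Agent.Lib.Helper96.Schmidt
import Cfsg.Agent.Lib.Helper76.Gag.Defs
import Cfsg.Agent.Lib.Helper76.Gag.Phi
import Cfsg.Agent.Lib.Helper76.Gag.Defs2
import Cfsg.Agent.Lib.Helper76.Gag.QuotH76
import Cfsg.Agent.Lib.Helper76.Gag.IsoH76
import Cfsg.Agent.Lib.Helper76.Gag.EmbH76
import Cfsg.Agent.Lib.Helper11.GagCrit
import Cfsg.Prelude.Def_Characters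
import Cfsg.Prelude.Def_Blocks

set_option autoImplicit false

namespace Cfsg.Agent.Lib.Helper76.GagMain

open scoped commutatorElement IsMulCommutative
open Cfsg.Agent.Lib.Helper3.Wreath Cfsg.Agent.Lib.Helper76.Gag

universe u

theorem step' {H : Type u} [Group H] [Finite H] (p : ℕ) [Fact p.Prime]
    (hcyc : IsCyclic (Subgroup.center H)) (hstar : StarC H) (hp : p ∣ Nat.card (Subgroup.center H)) :
    ∃ (H₁ : Type u) (_ : Group H₁) (_ : Finite H₁), IsCyclic (Subgroup.center H₁) ∧ StarC H₁ ∧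
      Nat.card (Subgroup.center H₁) = Nat.card (Subgroup.center H) ∧
      (∀ q : ℕ, q.Prime → (q ∣ Nat.card H₁ ↔ q ∣ Nat.card H)) ∧
      ∃ f : (H ⧸ Subgroup.center H) ≀ᵣ Cp p →* H₁ ⧸ Subgroup.center H₁, Function.Injective f := by
  have hpp : p.Prime := Fact.out
  obtain ⟨c₀, hc₀⟩ := exists_prime_orderOf_dvd_card' (G := Subgroup.center H) p hp
  have hc : c₀ ^ p = 1 := by rw [← hc₀]; exact pow_orderOf_eq_one c₀
  have hne : c₀ ≠ 1 := by
    intro h
    rw [h, orderOf_one] at hc₀
    exact hpp.one_lt.ne hc₀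
  have h := stepHyp_prod_h76 p hstar c₀ hc hne
  have hι := embHyp_prod_h76 p (H := H)
  obtain ⟨e⟩ := exists_center_equiv_h76 p (MonoidHom.snd H (Cp p)) (cK_h76 p c₀) h (MonoidHom.inl H (Cp p)) hι
  obtain ⟨fH, hfH⟩ := exists_embed_H_h76 p (MonoidHom.snd H (Cp p)) (cK_h76 p c₀) h (MonoidHom.inl H (Cp p)) hι
  refine ⟨H1 p (MonoidHom.snd H (Cp p)) (cK_h76 p c₀) h, inferInstance, inferInstance, ?_,
    starC_H1_h76 p _ _ h, (Nat.card_congr e.toEquiv).symm, ?_,
    exists_embed_wreath_h76 p (MonoidHom.snd H (Cp p)) (cK_h76 p c₀) h (MonoidHom.inl H (Cp p)) hι⟩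
  · exact isCyclic_of_surjective e e.surjective
  · intro q hq
    constructor
    · intro hd
      have hpH : p ∣ Nat.card H := hp.trans (Subgroup.card_subgroup_dvd_card _)
      rcases dvd_card_H1_h76 p (MonoidHom.snd H (Cp p)) (cK_h76 p c₀) h hq hd with h1 | h1
      · rw [Nat.card_prod] at h1
        rcases (Nat.Prime.dvd_mul hq).1 h1 with h2 | h2
        · exact h2
        · have h3 : Nat.card (Cp p) = p := by
            rw [Nat.card_eq_fintype_card, Fintype.card_multiplicative, ZMod.card]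
          rw [h3] at h2
          have : q = p := (Nat.prime_dvd_prime_iff_eq hq hpp).1 h2
          rw [this]; exact hpH
      · rw [h1]; exact hpH
    · intro hd
      exact hd.trans (Subgroup.card_dvd_of_injective fH hfH)

theorem main_aux' : ∀ (n : ℕ) (G : Type u) [Group G] [Finite G], Nat.card G = n → Group.IsSolvable G →
    ∀ m : ℕ, Squarefree m → (∀ q : ℕ, q.Prime → q ∣ Nat.card G → q ∣ m) →
    ∃ (H : Type u) (_ : Group H) (_ : Finite H), IsCyclic (Subgroup.center H) ∧ StarC H ∧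
      Nat.card (Subgroup.center H) = m ∧ (∀ q : ℕ, q.Prime → (q ∣ Nat.card H ↔ q ∣ m)) ∧
      ∃ f : G →* H ⧸ Subgroup.center H, Function.Injective f := by
  intro n
  induction n using Nat.strong_induction_on with
  | _ n ih =>
  intro G _ _ hn hsolv m hm hpm
  by_cases hnt : Nontrivial G
  · obtain ⟨N, hNn, hNp⟩ := Cfsg.Agent.Lib.Helper96.exists_normal_prime_index (G := G)
    have hlt : Nat.card N < n := by
      rw [← hn, ← Subgroup.card_mul_index N]
      have h1 : 1 < N.index := hNp.one_lt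
      have h2 : 0 < Nat.card N := Nat.card_pos
      nlinarith
    have hNsolv : Group.IsSolvable N := inferInstance
    obtain ⟨H, iG, iF, hcyc, hstar, hcard, hprimes, f₀, hf₀⟩ :=
      ih (Nat.card N) hlt N rfl hNsolv m hm
        (fun q hq hd => hpm q hq (hd.trans (Subgroup.card_subgroup_dvd_card N)))
    have hfact : Fact (N.index).Prime := ⟨hNp⟩
    have hpdvd : N.index ∣ Nat.card (Subgroup.center H) := by
      rw [hcard]
      exact hpm _ hNp (Subgroup.index_dvd_card N)
    obtain ⟨H₁, iG1, iF1, hcyc1, hstar1, hcard1, hprimes1, f₁, hf₁⟩ :=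
      step' N.index hcyc hstar hpdvd
    refine ⟨H₁, iG1, iF1, hcyc1, hstar1, hcard1.trans hcard,
      fun q hq => (hprimes1 q hq).trans (hprimes q hq), ?_⟩
    have hcq : Nat.card (G ⧸ N) = N.index := (Subgroup.index_eq_card N).symm
    have hcp : Nat.card (Cp N.index) = N.index := by
      rw [Nat.card_eq_fintype_card, Fintype.card_multiplicative, ZMod.card]
    let e : (G ⧸ N) ≃* Cp N.index := mulEquivOfPrimeCardEq hcq hcp
    let e2 : (H ⧸ Subgroup.center H) ≀ᵣ (G ⧸ N) ≃* (H ⧸ Subgroup.center H) ≀ᵣ Cp N.index :=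
      RegularWreathProduct.congr (MulEquiv.refl _) e
    refine ⟨f₁.comp (e2.toMonoidHom.comp ((mapLeft f₀).comp (kk N))), ?_⟩
    exact hf₁.comp (e2.injective.comp ((mapLeft_injective hf₀).comp (kk_injective N)))
  · have hsub : Subsingleton G := not_nontrivial_iff_subsingleton.mp hnt
    have hm0 : m ≠ 0 := hm.ne_zero
    have : NeZero m := ⟨hm0⟩
    let H := ULift.{u} (Multiplicative (ZMod m))
    have hcen : Subgroup.center H = ⊤ := CommGroup.center_eq_top
    have hcyc0 : IsCyclic H := isCyclic_of_surjective (MulEquiv.ulift (α := Multiplicative (ZMod m))).symm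
      (MulEquiv.ulift (α := Multiplicative (ZMod m))).symm.surjective
    have hcardH : Nat.card H = m := by
      rw [Nat.card_congr Equiv.ulift, Nat.card_eq_fintype_card, Fintype.card_multiplicative, ZMod.card]
    refine ⟨H, inferInstance, inferInstance, inferInstance, ?_, ?_, ?_, 1, ?_⟩
    · intro h hh
      exact absurd (hcen ▸ Subgroup.mem_top h) hh
    · rw [hcen, Subgroup.card_top, hcardH]
    · intro q _
      rw [hcardH]
    · intro a b _
      exact Subsingleton.elim a b

/-- S4561 in the project's vocabulary -/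
theorem gag_main {G : Type u} [Group G] [Finite G] (hsolv : Group.IsSolvable G) :
    ∃ (H : Type u) (_ : Group H) (_ : Finite H) (χ : Cfsg.IrrCharacter H),
      (∀ h : H, (χ : H → ℂ) h = (χ : H → ℂ) 1 → h = 1) ∧
      (Cfsg.charDegree (χ : H → ℂ)) ^ 2 = (Subgroup.center H).index ∧
      (∃ f : G →* H ⧸ Subgroup.center H, Function.Injective f) ∧
      (∀ p : ℕ, p.Prime → ((p ∣ Nat.card H ↔ p ∣ Nat.card G) ∧
        (p ∣ Nat.card (Subgroup.center H) ↔ p ∣ Nat.card G))) ∧
      Squarefree (Nat.card (Subgroup.center H)) := by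
  have hG0 : Nat.card G ≠ 0 := Nat.card_pos.ne'
  set m := UniqueFactorizationMonoid.radical (Nat.card G) with hm
  have hmsq : Squarefree m := UniqueFactorizationMonoid.squarefree_radical
  have hdiv : ∀ q : ℕ, q.Prime → (q ∣ m ↔ q ∣ Nat.card G) := by
    intro q hq
    have hm0 : m ≠ 0 := UniqueFactorizationMonoid.radical_ne_zero
    have h1 : q ∈ m.primeFactors ↔ q ∈ (Nat.card G).primeFactors := by
      rw [hm, Nat.primeFactors_radical]
    simp only [Nat.mem_primeFactors] at h1
    constructor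
    · intro h
      exact (h1.1 ⟨hq, h, hm0⟩).2.1
    · intro h
      exact (h1.2 ⟨hq, h, hG0⟩).2.1
  obtain ⟨H, iG, iF, hcyc, hstar, hcard, hprimes, f, hf⟩ :=
    main_aux' (Nat.card G) G rfl hsolv m hmsq (fun q hq hd => (hdiv q hq).2 hd)
  obtain ⟨χ, hχ1, hχ2⟩ := exists_fully_ramified hcyc hstar
  refine ⟨H, iG, iF, χ, hχ1, hχ2, ⟨f, hf⟩, ?_, ?_⟩
  · intro q hq
    exact ⟨(hprimes q hq).trans (hdiv q hq), by rw [hcard]; exact hdiv q hq⟩
  · rw [hcard]; exact hmsq

end Cfsg.Agent.Lib.Helper76.GagMain
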